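import Groth.Agent.ResProp.EF.K65.Defs

/-!
# Node T3 of block T: `E = id` on the killing module
-/

set_option autoImplicit false

open MvPolynomial

namespace Groth.Agent.ResProp.EF.K676

open K65

universe u

section Lead

variable {σ : Type*} {S : Type*} [CommRing S] (o : MonomialOrder σ)

/-- `g` has leading exponent at most `e` with coefficient `a` at `e`. -/
def LC (g : MvPolynomial σ S) (e : σ →₀ ℕ) (a : S) : Prop :=
  (∀ d ∈ g.support, o.toSyn d ≤ o.toSyn e) ∧ coeff e g = a

variable {o}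

theorem LC.one : LC o (1 : MvPolynomial σ S) 0 1 := by
  classical
  refine ⟨fun d hd => ?_, coeff_zero_one⟩
  rw [mem_support_iff, coeff_one] at hd
  have : 0 = d := by
    by_contra h
    exact hd (if_neg h)
  rw [← this]

theorem LC.mul {g h : MvPolynomial σ S} {e e' : σ →₀ ℕ} {a b : S} (hg : LC o g e a) (hh : LC o h e' b) :
    LC o (g * h) (e + e') (a * b) := by
  have h1 : o.toSyn (o.degree g) ≤ o.toSyn e := o.degree_le_iff.2 hg.1
  have h2 : o.toSyn (o.degree h) ≤ o.toSyn e' := o.degree_le_iff.2 hh.1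
  refine ⟨?_, ?_⟩
  · refine o.degree_le_iff.1 (le_trans o.degree_mul_le ?_)
    rw [map_add, map_add]
    exact add_le_add h1 h2
  · rw [o.coeff_mul_of_add_of_degree_le h1 h2, hg.2, hh.2]

theorem LC.pow {g : MvPolynomial σ S} {e : σ →₀ ℕ} {a : S} (hg : LC o g e a) (n : ℕ) :
    LC o (g ^ n) (n • e) (a ^ n) := by
  induction n with
  | zero => rw [pow_zero, pow_zero, zero_smul]; exact LC.one
  | succ n ih => rw [pow_succ, pow_succ, succ_nsmul]; exact ih.mul hg

theorem LC.prod {ι : Type*} (s : Finset ι) {g : ι → MvPolynomial σ S} {e : ι → σ →₀ ℕ} {a : ι → S}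
    (hg : ∀ i ∈ s, LC o (g i) (e i) (a i)) : LC o (∏ i ∈ s, g i) (∑ i ∈ s, e i) (∏ i ∈ s, a i) := by
  classical
  induction s using Finset.induction_on with
  | empty => simpa using LC.one
  | insert i s his ih =>
    rw [Finset.prod_insert his, Finset.prod_insert his, Finset.sum_insert his]
    exact (hg i (Finset.mem_insert_self _ _)).mul (ih fun j hj => hg j (Finset.mem_insert_of_mem hj))

end Lead

section Basic

variable {r N : ℕ} {R : Type u} [CommRing R]

theorem ev_eq_sum {S : Type u} [CommRing S] [Algebra R S] (Y : Matrix (Fin r) (Fin N) S) (f : P r N R) :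
    ev Y f = ∑ d ∈ f.support, algebraMap R S (coeff d f) * ∏ ij, Y ij.1 ij.2 ^ d ij := by
  rw [ev, aeval_def, eval₂_eq']

theorem MH.row_sum {μ : Fin r → ℕ} {f : P r N R} (hf : MH μ f) {d : Fin r × Fin N →₀ ℕ}
    (hd : d ∈ f.support) (i : Fin r) : ∑ j, d (i, j) = μ i := by
  have h := congrFun (hf (mem_support_iff.1 hd)) i
  rw [Finsupp.weight_apply, Finsupp.sum_fintype _ _ (by simp), Finset.sum_apply] at h
  rw [← h, Fintype.sum_prod_type]
  rw [Finset.sum_eq_single i]
  · refine Finset.sum_congr rfl fun j _ => ?_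
    rw [Pi.smul_apply, wt]
    simp
  · intro k _ hk
    refine Finset.sum_eq_zero fun j _ => ?_
    rw [Pi.smul_apply, wt]
    simp [hk.symm]
  · intro h; exact absurd (Finset.mem_univ _) h

/-- scaling of the rows -/
theorem ev_scale {μ : Fin r → ℕ} {f : P r N R} (hf : MH μ f) {S : Type u} [CommRing S] [Algebra R S]
    (Y : Matrix (Fin r) (Fin N) S) (c : Fin r → S) :
    ev (Matrix.of fun i j => c i * Y i j) f = (∏ i, c i ^ μ i) * ev Y f := by
  rw [ev_eq_sum, ev_eq_sum, Finset.mul_sum]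
  refine Finset.sum_congr rfl fun d hd => ?_
  have h : ∏ i, c i ^ μ i = ∏ ij : Fin r × Fin N, c ij.1 ^ d ij := by
    rw [Fintype.prod_prod_type]
    refine Finset.prod_congr rfl fun i _ => ?_
    rw [← MH.row_sum hf hd i]
    exact (Finset.prod_pow_eq_pow_sum _ _ _).symm
  simp only [Matrix.of_apply, mul_pow, Finset.prod_mul_distrib]
  rw [h]
  ring

/-- leading coefficient of a multihomogeneous form at a triangular matrix of linear forms -/
theorem LC_ev {σ : Type} (o : MonomialOrder σ) {μ : Fin r → ℕ} {f : P r N R} (hf : MH μ f)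
    {S : Type u} [CommRing S] [Algebra R S] (Y : Matrix (Fin r) (Fin N) S)
    (V : Matrix (Fin r) (Fin N) (MvPolynomial σ S)) (e : Fin r → σ →₀ ℕ)
    (hV : ∀ i j, LC o (V i j) (e i) (Y i j)) : coeff (∑ i, μ i • e i) (ev V f) = ev Y f := by
  rw [ev_eq_sum, ev_eq_sum, coeff_sum]
  refine Finset.sum_congr rfl fun d hd => ?_
  have h1 : LC o (∏ ij : Fin r × Fin N, V ij.1 ij.2 ^ d ij) (∑ ij : Fin r × Fin N, d ij • e ij.1)
      (∏ ij : Fin r × Fin N, Y ij.1 ij.2 ^ d ij) :=
    LC.prod _ fun ij _ => (hV ij.1 ij.2).pow _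
  have h2 : ∑ ij : Fin r × Fin N, d ij • e ij.1 = ∑ i, μ i • e i := by
    rw [Fintype.sum_prod_type]
    refine Finset.sum_congr rfl fun i _ => ?_
    rw [← MH.row_sum hf hd i, Finset.sum_smul]
  rw [← h2, IsScalarTower.algebraMap_apply R S (MvPolynomial σ S), MvPolynomial.algebraMap_eq,
    coeff_C_mul, h1.2]

end Basic

section Main

variable {n N : ℕ} {R S : Type u} [CommRing R] [CommRing S] [Algebra R S]

/-- the triangular matrix `V_i = ∑_{l ≥ i} t_l y_l` -/
noncomputable def VV {m : ℕ} (Y : Matrix (Fin m) (Fin N) S) :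
    Matrix (Fin m) (Fin N) (MvPolynomial (Fin m) S) :=
  Matrix.of fun i j => ∑ l ∈ Finset.Ici i, X l * C (Y l j)

theorem LC_VV {m : ℕ} (Y : Matrix (Fin m) (Fin N) S) (i : Fin m) (j : Fin N) :
    LC (MonomialOrder.lex (σ := Fin m)) (VV Y i j) (Finsupp.single i 1) (Y i j) := by
  classical
  refine ⟨fun d hd => ?_, ?_⟩
  · have h := support_sum hd
    rw [Finset.mem_biUnion] at h
    obtain ⟨l, hl, hd⟩ := h
    have hd' : d = Finsupp.single l 1 := by
      rw [mem_support_iff, mul_comm, coeff_C_mul, coeff_X] at hd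
      by_contra hne
      exact hd (by rw [if_neg (Ne.symm hne), mul_zero])
    rw [hd']
    exact Finsupp.Lex.single_le_iff.2 (Finset.mem_Ici.1 hl)
  · rw [VV, Matrix.of_apply, coeff_sum, Finset.sum_eq_single i]
    · rw [mul_comm, coeff_C_mul, coeff_X, if_pos rfl, mul_one]
    · intro l _ hl
      rw [mul_comm, coeff_C_mul, coeff_X, if_neg, mul_zero]
      intro h
      exact hl (Finsupp.single_left_injective one_ne_zero h)
    · intro h
      exact absurd (Finset.mem_Ici.2 le_rfl) h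

/-- the scaling factors: `1, -t_0, -t_1, ..` -/
noncomputable def cc (n : ℕ) (S : Type u) [CommRing S] : Fin (n + 1) → MvPolynomial (Fin (n + 1)) S :=
  Fin.cons 1 fun k => - X k.castSucc

/-- the rows `∑ t_l y_l, - t_0 y_0, - t_1 y_1, ..` -/
noncomputable def WW (Y : Matrix (Fin (n + 1)) (Fin N) S) :
    Matrix (Fin (n + 1)) (Fin N) (MvPolynomial (Fin (n + 1)) S) :=
  Matrix.of fun i j => cc n S i * shiftArg Y i j

theorem WW_zero (Y : Matrix (Fin (n + 1)) (Fin N) S) (j : Fin N) : WW Y 0 j = VV Y 0 j := by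
  rw [WW, VV, Matrix.of_apply, Matrix.of_apply, cc, Fin.cons_zero, one_mul, shiftArg, Matrix.of_apply,
    dif_pos (by simp)]
  refine Finset.sum_congr ?_ fun _ _ => rfl
  ext l
  simp

theorem WW_succ (Y : Matrix (Fin (n + 1)) (Fin N) S) (k : Fin n) (j : Fin N) :
    WW Y k.succ j = - (X k.castSucc * C (Y k.castSucc j)) := by
  rw [WW, Matrix.of_apply, cc, Fin.cons_succ, shiftArg, Matrix.of_apply, dif_neg (by simp), neg_mul]
  congr 4

theorem VV_castSucc (Y : Matrix (Fin (n + 1)) (Fin N) S) (k : Fin n) (j : Fin N) :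
    VV Y k.castSucc j = X k.castSucc * C (Y k.castSucc j) + VV Y k.succ j := by
  classical
  rw [VV, Matrix.of_apply, Matrix.of_apply]
  have h : Finset.Ici k.castSucc = insert k.castSucc (Finset.Ici k.succ) := by
    ext l
    rw [Finset.mem_insert, Finset.mem_Ici, Finset.mem_Ici, Fin.le_def, Fin.le_def, Fin.ext_iff]
    simp only [Fin.val_castSucc, Fin.val_succ]
    omega
  rw [h, Finset.sum_insert]
  rw [Finset.mem_Ici, Fin.le_def]
  simp

/-- the intermediate matrices -/
noncomputable def MM (Y : Matrix (Fin (n + 1)) (Fin N) S) (k : ℕ) :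
    Matrix (Fin (n + 1)) (Fin N) (MvPolynomial (Fin (n + 1)) S) :=
  Matrix.of fun i j => if (i : ℕ) ≤ k then VV Y i j else WW Y i j

theorem MM_zero (Y : Matrix (Fin (n + 1)) (Fin N) S) : MM Y 0 = WW Y := by
  ext1 i j
  rw [MM, Matrix.of_apply]
  split_ifs with h
  · have : i = 0 := Fin.ext (by simpa using h)
    rw [this, WW_zero]
  · rfl

theorem MM_last (Y : Matrix (Fin (n + 1)) (Fin N) S) : MM Y n = VV Y := by
  ext1 i j
  rw [MM, Matrix.of_apply, if_pos (by omega)]

theorem MM_succ (Y : Matrix (Fin (n + 1)) (Fin N) S) (k : Fin n) :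
    MM Y (k + 1) = (MM Y k).updateRow k.succ
      (MM Y k k.succ + (1 : MvPolynomial (Fin (n + 1)) S) • MM Y k k.castSucc) := by
  ext1 i j
  by_cases hi : i = k.succ
  · subst hi
    rw [Matrix.updateRow_self, Pi.add_apply, Pi.smul_apply, one_smul, MM, Matrix.of_apply, MM,
      Matrix.of_apply, Matrix.of_apply, if_pos (by simp), if_neg (by simp), if_pos (by simp), WW_succ,
      VV_castSucc]
    ring
  · rw [Matrix.updateRow_ne hi, MM, MM, Matrix.of_apply, Matrix.of_apply]
    have h : (i : ℕ) ≠ k + 1 := fun h => hi (Fin.ext (by simpa using h))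
    by_cases h' : (i : ℕ) ≤ k
    · rw [if_pos h', if_pos (by omega)]
    · rw [if_neg h', if_neg (by omega)]

theorem ev_WW {f : P (n + 1) N R} (hf : Inv 0 f) (Y : Matrix (Fin (n + 1)) (Fin N) S) :
    ev (WW Y) f = ev (VV Y) f := by
  have h : ∀ k : ℕ, k ≤ n → ev (MM Y k) f = ev (MM Y 0) f := by
    intro k
    induction k with
    | zero => intro _; rfl
    | succ k ih =>
      intro hk
      rw [← ih (by omega)]
      have e := MM_succ Y ⟨k, hk⟩
      dsimp only at e
      rw [e]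
      exact hf _ _ _ _ _ (Fin.castSucc_lt_succ) (Nat.zero_le _)
  rw [← MM_zero, ← h n le_rfl, MM_last]

/-- the exponent of `∏_{i ≥ 1} t_(i-1) ^ μ_i` -/
noncomputable def ee (m q : ℕ) : Fin m →₀ ℕ :=
  Finsupp.equivFunOnFinite.symm fun l => (m - 1 - l) * (q - 1)

theorem prod_cc (q : ℕ) (hq : (-1 : S) ^ (q - 1) = 1) :
    ∏ i, cc n S i ^ mu (n + 1) q i = monomial (ee (n + 1) q) 1 := by
  rw [monomial_eq, C_1, one_mul, Finsupp.prod_fintype _ _ fun _ => pow_zero _, Fin.prod_univ_succ,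
    Fin.prod_univ_castSucc]
  have h0 : cc n S 0 = 1 := rfl
  have h1 : ee (n + 1) q (Fin.last n) = 0 := by
    change (n + 1 - 1 - (Fin.last n : ℕ)) * (q - 1) = 0
    simp
  rw [h0, one_pow, one_mul, h1, pow_zero, mul_one]
  refine Finset.prod_congr rfl fun k _ => ?_
  have h2 : cc n S k.succ = - X k.castSucc := rfl
  have h3 : ee (n + 1) q k.castSucc = mu (n + 1) q k.succ := by
    change (n + 1 - 1 - (k.castSucc : ℕ)) * (q - 1) = (n + 1 - (k.succ : ℕ)) * (q - 1)
    congr 1
    simp only [Fin.val_castSucc, Fin.val_succ]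
    omega
  have h4 : (-1 : MvPolynomial (Fin (n + 1)) S) ^ mu (n + 1) q k.succ = 1 := by
    have h5 : (-1 : MvPolynomial (Fin (n + 1)) S) ^ (q - 1) = 1 := by
      rw [← C_1, ← C_neg, ← C_pow, hq]
    rw [mu, mul_comm, pow_mul, h5, one_pow]
  rw [h2, h3, neg_pow, h4, one_mul]

theorem sum_mu (m q : ℕ) : ∑ i, mu m q i • Finsupp.single i 1 = ee m q + topE m q := by
  classical
  ext l
  rw [Finsupp.finsetSum_apply, Finset.sum_eq_single l]
  · rw [Finsupp.smul_apply, Finsupp.single_eq_same, smul_eq_mul, mul_one, Finsupp.add_apply]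
    change (m - l) * (q - 1) = (m - 1 - l) * (q - 1) + (q - 1)
    have h : m - (l : ℕ) = m - 1 - l + 1 := by omega
    rw [h, Nat.add_mul, one_mul]
  · intro k _ hk
    rw [Finsupp.smul_apply, Finsupp.single_apply, if_neg hk, smul_zero]
  · intro h
    exact absurd (Finset.mem_univ _) h

theorem tau_shiftArg_succ {q : ℕ} (hq : (-1 : R) ^ (q - 1) = 1) {f : P (n + 1) (n + 1 + 1) R}
    (hf : IsT q f) (Y : Matrix (Fin (n + 1)) (Fin (n + 1 + 1)) S) :
    tau q (ev (shiftArg Y) f) = ev Y f := by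
  have hq' : (-1 : S) ^ (q - 1) = 1 := by
    have := congrArg (algebraMap R S) hq
    rwa [map_pow, map_neg, map_one] at this
  have h1 : ev (WW Y) f = (∏ i, cc n S i ^ mu (n + 1) q i) * ev (shiftArg Y) f :=
    ev_scale hf.1 (shiftArg Y) (cc n S)
  rw [ev_WW hf.2 Y, prod_cc q hq'] at h1
  have h2 := LC_ev MonomialOrder.lex hf.1 Y (VV Y) (fun i => Finsupp.single i 1) (LC_VV Y)
  rw [h1, sum_mu, coeff_monomial_mul, one_mul] at h2
  exact h2

end Main

/-- **T3**: on the killing module `E` (in the form with `t`) is the identity. -/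
theorem T3_holds : K65.T3.{u} := by
  intro R _ m q hq f hf S _ _ Y
  match m, f, hf, Y with
  | 0, f, hf, Y =>
    have : Subsingleton (Matrix (Fin 0) (Fin (0 + 1)) S) := ⟨fun a b => Matrix.ext fun i => i.elim0⟩
    obtain ⟨a, rfl⟩ : ∃ a, f = C a := ⟨_, eq_C_of_isEmpty f⟩
    rw [ev, ev, algHom_C, algHom_C, tau, lcoeff_apply, IsScalarTower.algebraMap_apply R S (MvPolynomial (Fin 0) S),
      MvPolynomial.algebraMap_eq, coeff_C, if_pos (Subsingleton.elim _ _)]
  | n + 1, f, hf, Y => exact tau_shiftArg_succ hq hf Y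

end Groth.Agent.ResProp.EF.K676
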