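import Groth.Agent.ResProp.EF.K65.Out

/-!
# Restriction along a homomorphism of groups: morphisms, tensor products, `End T`
-/

set_option autoImplicit false

universe u

open TensorProduct

noncomputable section

namespace Groth.Agent.ResProp.EF.K676

open Grp K65

variable {k : Type u} [CommRing k] {G H : Gp k} (φ : G.O →ₐc[k] H.O)

/-- two comodule structures with the same coaction are equal -/
theorem comod_ext {V : Type u} [AddCommGroup V] [Module k V] {c d : HopfRep.Comod k G.O V}
    (h : c.coact = d.coact) : c = d := by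
  cases c; cases d; cases h; rfl

theorem res_coact (M : GMod G) (m : M.V) :
    (M.res φ).co.coact m = (φ : G.O →ₐ[k] H.O).toLinearMap.lTensor M.V (M.co.coact m) := rfl

theorem map_mul_tttc {V W : Type u} [AddCommGroup V] [Module k V] [AddCommGroup W] [Module k W]
    (x : V ⊗[k] G.O) (y : W ⊗[k] G.O) :
    (φ : G.O →ₐ[k] H.O).toLinearMap.lTensor (V ⊗[k] W)
      (TensorProduct.map LinearMap.id (LinearMap.mul' k G.O)
        (AlgebraTensorModule.tensorTensorTensorComm k k k k V G.O W G.O (x ⊗ₜ[k] y))) =
      TensorProduct.map LinearMap.id (LinearMap.mul' k H.O)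
        (AlgebraTensorModule.tensorTensorTensorComm k k k k V H.O W H.O
          ((φ : G.O →ₐ[k] H.O).toLinearMap.lTensor V x ⊗ₜ[k] (φ : G.O →ₐ[k] H.O).toLinearMap.lTensor W y)) := by
  induction x using TensorProduct.induction_on with
  | zero => simp only [TensorProduct.zero_tmul, map_zero]
  | add x x' hx hx' => simp only [TensorProduct.add_tmul, map_add, hx, hx']
  | tmul v a =>
    induction y using TensorProduct.induction_on with
    | zero => simp only [TensorProduct.tmul_zero, map_zero]
    | add y y' hy hy' => simp only [TensorProduct.tmul_add, map_add, hy, hy']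
    | tmul w b =>
      simp only [AlgebraTensorModule.tensorTensorTensorComm_tmul, TensorProduct.map_tmul, LinearMap.id_apply,
        LinearMap.mul'_apply, LinearMap.lTensor_tmul, AlgHom.toLinearMap_apply, map_mul]

/-- restriction commutes with tensor products (same structure) -/
theorem tens_res_co (M N : GMod G) : ((M.tens N).res φ).co = ((M.res φ).tens (N.res φ)).co := by
  apply comod_ext
  refine TensorProduct.ext' fun m n => ?_
  change (φ : G.O →ₐ[k] H.O).toLinearMap.lTensor (M.V ⊗[k] N.V)
    ((ComodTens.Comod.tensor M.co N.co).coact (m ⊗ₜ[k] n)) =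
    (ComodTens.Comod.tensor (M.res φ).co (N.res φ).co).coact (m ⊗ₜ[k] n)
  rw [ComodTens.tensor_coact_tmul, ComodTens.tensor_coact_tmul, map_mul_tttc]
  rfl

/-- restriction commutes with tensor products -/
theorem tens_res (M N : GMod G) : (M.tens N).res φ = (M.res φ).tens (N.res φ) := by
  have h := tens_res_co φ M N
  change GMod.mk _ (co := ((M.tens N).res φ).co) = GMod.mk _ (co := ((M.res φ).tens (N.res φ)).co)
  rw [h]

/-- a morphism of `G`-modules is a morphism of `H`-modules -/
theorem hom_res {M N : GMod G} {f : M.V →ₗ[k] N.V} (hf : Hoch.IsComodHom G.O f) :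
    @Hoch.IsComodHom k _ H.O _ _ _ M.V _ _ (M.res φ).co N.V _ _ (N.res φ).co f := by
  refine LinearMap.ext fun m => ?_
  have h := LinearMap.congr_fun hf m
  change (φ : G.O →ₐ[k] H.O).toLinearMap.lTensor N.V (N.co.coact (f m)) =
    f.rTensor H.O ((φ : G.O →ₐ[k] H.O).toLinearMap.lTensor M.V (M.co.coact m))
  rw [← ComodTens.lTensor_rTensor_comm]
  exact congrArg _ h

/-- a morphism mod `p` of `G`-modules is a morphism mod `p` of `H`-modules -/
theorem homP_res {p : ℕ} {M N : GMod G} {f : M.V →ₗ[k] N.V} (hf : HomP p M N f) :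
    HomP p (M.res φ) (N.res φ) f := by
  intro x
  obtain ⟨y, hy⟩ := hf x
  refine ⟨(φ : G.O →ₐ[k] H.O).toLinearMap.lTensor N.V y, ?_⟩
  change (φ : G.O →ₐ[k] H.O).toLinearMap.lTensor N.V (N.co.coact (f x)) -
    f.rTensor H.O ((φ : G.O →ₐ[k] H.O).toLinearMap.lTensor M.V (M.co.coact x)) = _
  rw [← ComodTens.lTensor_rTensor_comm, ← map_sub, hy, map_smul]

/-- `End T` restricts -/
def endStrRes {T : GMod G} (E : EndStr T) : EndStr (T.res φ) where
  co := (E.mod.res φ).co
  ev := by
    have h := hom_res φ (M := E.mod.tens T) (N := T) E.ev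
    rw [tens_res_co] at h
    exact h

theorem endStrRes_mod {T : GMod G} (E : EndStr T) : (endStrRes φ E).mod = E.mod.res φ := rfl

theorem endStrRes_co {T : GMod G} (E : EndStr T) : (endStrRes φ E).co = (E.mod.res φ).co := rfl

theorem isLat_res {T : GMod G} (h : IsLat T) : IsLat (T.res φ) := ⟨h.free, h.fin, h.nontriv⟩

/-- cochains: restriction and a morphism commute -/
theorem cres_cmap (M N : GMod G) (f : M.V →ₗ[k] N.V) (n : ℕ) (c : M.C n) :
    cres φ N n (cmap M N f n c) = cmap (M.res φ) (N.res φ) f n (cres φ M n c) := by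
  induction n with
  | zero => rfl
  | succ n ih =>
    change TensorProduct.map (cres φ N n) (φ : G.O →ₐ[k] H.O).toLinearMap ((cmap M N f n).rTensor G.O c) =
      (cmap (M.res φ) (N.res φ) f n).rTensor H.O
        (TensorProduct.map (cres φ M n) (φ : G.O →ₐ[k] H.O).toLinearMap c)
    refine TensorProduct.induction_on c (by simp only [map_zero]) (fun x a => ?_)
      (fun x y hx hy => by simp only [map_add, hx, hy])
    simp only [LinearMap.rTensor_tmul, TensorProduct.map_tmul, ih]

end Groth.Agent.ResProp.EF.K676
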